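import Cfsg.Agent.N2.Sp5.Shape
import Cfsg.Agent.N2.Sp.GM
import Cfsg.Agent.N2.Sp.GB
import Cfsg.Agent.N2.Sp.GFi24
import Cfsg.Agent.N2.Sp.GFi23
import Cfsg.Agent.N2.Sp.GFi22
import Cfsg.Agent.N2.Sp.GCo2
import Cfsg.Agent.N2.Sp.GCo3
import Cfsg.Agent.N2.Sp.GSuz

/-!
# N2 (S3519), sporadic groups: the bad subgroups which are not local (helper16)
-/

set_option autoImplicit false
set_option linter.unusedSectionVars false
set_option maxRecDepth 100000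

namespace Cfsg.Agent.N2.Sp5

open Cfsg Subgroup Cfsg.Agent.FP3 Cfsg.Agent.N2.Sp
open Cfsg.Agent.TAB.Eng Cfsg.Agent.TAB.Use Cfsg.Agent.SB.SporL Cfsg.Agent.TH.Spor

variable {K : Type} [Group K] [Finite K] {D : Dat} {T : TD K D} {R : Rows} {ν : List ℕ} {A : Subgroup K} {S : List ℕ}

theorem mem_S (H : Hy T R ν) (hS : Sup T A S) {a : K} (ha : a ∈ A) (h : orderOf a ≠ 1) : T.ty a ∈ S :=
  (hS a ha).resolve_left fun e => h (by rw [(H.zero a).1 e, orderOf_one])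

/-- few elements of the type of `a` -/
theorem good_of_num (H : Hy T R ν) {a : K} (ha : a ∈ A) {k : ℕ} (hk : num T A (T.ty a) ≤ k) (h0 : 0 < ntd ν 0 (T.ty a))
    (h : (D.N * k / (Nat.card A * ntd ν 0 (T.ty a))) ^ 3 * Nat.card A ≤ D.N) : Good A :=
  good_of_le ha ((Nat.le_div_iff_mul_le (Nat.mul_pos Nat.card_pos h0)).2 (by
    rw [← mul_assoc]
    exact (H.den A a).trans (Nat.mul_le_mul_left D.N hk))) (h.trans H.mass.1.ge)

theorem num_le_ord {a : K} {n : ℕ} (h : orderOf a = n) : num T A (T.ty a) ≤ Nat.card {g : A // orderOf g = n} :=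
  Nat.card_le_card_of_injective (fun x => ⟨x.1, by rw [← orderOf_coe, T.ord, x.2, ← T.ord, h]⟩)
    fun _ _ e => Subtype.ext (congrArg Subtype.val e :)

/-- the check for a type of order five -/
def Ok5 (D : Dat) (ν S : List ℕ) (t : ℕ) : Prop :=
  0 < ntd ν 0 t ∧ ((D.N / ntd ν 0 t) ^ 3 * 51840 ≤ D.N ∨
    (∀ u ∈ S, D.ord u ≠ 9) ∧ ∀ q ∈ cand, (D.N * q.2 / (q.1 * ntd ν 0 t)) ^ 3 * q.1 ≤ D.N)

noncomputable instance (D : Dat) (ν S : List ℕ) (t : ℕ) : Decidable (Ok5 D ν S t) := by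
  unfold Ok5
  infer_instance

theorem nl_of (cf : Cf) (H : Hy T R ν) (hb : ¬ Good A) (hA : A ≠ ⊥) (hS : Sup T A S)
    (h0 : ∀ p : ℕ, p.Prime → pCore p A = ⊥) (h1 : ∀ t ∈ S, D.ord t ∈ [2, 3, 4, 5, 6, 8, 9, 12])
    (h2 : ∀ t ∈ S, D.ord t = 5 → Ok5 D ν S t) : False := by
  have : Nontrivial A := A.nontrivial_iff_ne_bot.2 hA
  have ho : ∀ g : A, orderOf g ∈ [1, 2, 3, 4, 5, 6, 8, 9, 12] := fun g => by
    by_cases e : orderOf (g : K) = 1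
    · exact List.mem_cons.2 (.inl (by rwa [orderOf_coe] at e))
    · have h3 := h1 _ (mem_S H hS g.2 e)
      rw [← T.ord, orderOf_coe] at h3
      exact List.mem_cons_of_mem _ h3
  obtain ⟨⟨a, oa⟩, h3⟩ := shape cf h0 (fun g hg => (by decide : ∀ n ∈ [1, 2, 3, 4, 5, 6, 8, 9, 12], n.Prime → n ≤ 5) _
    (ho g) hg) fun g => (by decide : ∀ n ∈ [1, 2, 3, 4, 5, 6, 8, 9, 12], n ≠ 10 ∧ n ≠ 15) _ (ho g)
  rw [← orderOf_coe] at oa
  obtain ⟨h4, h5⟩ := h2 _ (mem_S H hS a.2 (by omega)) (T.ord _ ▸ oa)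
  rcases h5 with h5 | ⟨h5, h6⟩
  · have h6 : Nat.card A ≤ 51840 := h3.elim (fun ⟨q, k1, k2, _⟩ => k2 ▸ (by decide : ∀ q ∈ cand, q.1 ≤ 51840) q k1) And.left
    exact absurd ((H.thr hb a.2 h4).trans_le (Nat.mul_le_mul_left _ h6)) (not_lt.2 h5)
  · rcases h3 with ⟨q, k1, k2, k3⟩ | ⟨-, g, hg⟩
    · exact hb (good_of_num H a.2 ((num_le_ord oa).trans k3) h4 (k2 ▸ h6 q k1))
    · rw [← orderOf_coe] at hg
      exact h5 _ (mem_S H hS g.2 (by omega)) (T.ord _ ▸ hg)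

variable {Γ : Subgroup (MulAut K)}

theorem nl_M (cf : Cf) {T : TD K Sp.M.D} (H : Hy T Sp.M.R Sp.M.nu) (h : MI A Γ) (hb : ¬ Good A)
    (h0 : ∀ p : ℕ, p.Prime → pCore p A = ⊥) : False :=
  nl_of cf H hb h.ne_bot (Sp.M.sup H hb h.ne_top).2 h0 (by decide +kernel) (by decide +kernel)

theorem nl_B (cf : Cf) {T : TD K Sp.B.D} (H : Hy T Sp.B.R Sp.B.nu) (h : MI A Γ) (hb : ¬ Good A)
    (h0 : ∀ p : ℕ, p.Prime → pCore p A = ⊥) : False :=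
  nl_of cf H hb h.ne_bot (Sp.B.sup H hb h.ne_top).2 h0 (by decide +kernel) (by decide +kernel)

theorem nl_Fi24 (cf : Cf) {T : TD K Sp.Fi24.D} (H : Hy T Sp.Fi24.R Sp.Fi24.nu) (h : MI A Γ) (hb : ¬ Good A)
    (h0 : ∀ p : ℕ, p.Prime → pCore p A = ⊥) : False :=
  nl_of cf H hb h.ne_bot (Sp.Fi24.sup H hb h.ne_top).2 h0 (by decide +kernel) (by decide +kernel)

theorem nl_Fi23 (cf : Cf) {T : TD K Sp.Fi23.D} (H : Hy T Sp.Fi23.R Sp.Fi23.nu) (h : MI A Γ) (hb : ¬ Good A)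
    (h0 : ∀ p : ℕ, p.Prime → pCore p A = ⊥) : False :=
  nl_of cf H hb h.ne_bot (Sp.Fi23.sup H hb h.ne_top).2 h0 (by decide +kernel) (by decide +kernel)

theorem nl_Fi22 (cf : Cf) {T : TD K Sp.Fi22.D} (H : Hy T Sp.Fi22.R Sp.Fi22.nu) (h : MI A Γ) (hb : ¬ Good A)
    (h0 : ∀ p : ℕ, p.Prime → pCore p A = ⊥) : False :=
  nl_of cf H hb h.ne_bot (Sp.Fi22.sup H hb h.ne_top).2 h0 (by decide +kernel) (by decide +kernel)

theorem nl_Co2 (cf : Cf) {T : TD K Sp.Co2.D} (H : Hy T Sp.Co2.R Sp.Co2.nu) (h : MI A Γ) (hb : ¬ Good A)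
    (h0 : ∀ p : ℕ, p.Prime → pCore p A = ⊥) : False :=
  nl_of cf H hb h.ne_bot (Sp.Co2.sup H hb h.ne_top).2 h0 (by decide +kernel) (by decide +kernel)

theorem nl_Co3 (cf : Cf) {T : TD K Sp.Co3.D} (H : Hy T Sp.Co3.R Sp.Co3.nu) (h : MI A Γ) (hb : ¬ Good A)
    (h0 : ∀ p : ℕ, p.Prime → pCore p A = ⊥) : False :=
  nl_of cf H hb h.ne_bot (Sp.Co3.sup H hb h.ne_top).2 h0 (by decide +kernel) (by decide +kernel)

theorem nl_Suz (cf : Cf) {T : TD K Sp.Suz.D} (H : Hy T Sp.Suz.R Sp.Suz.nu) (h : MI A Γ) (hb : ¬ Good A)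
    (h0 : ∀ p : ℕ, p.Prime → pCore p A = ⊥) : False :=
  nl_of cf H hb h.ne_bot (Sp.Suz.sup H hb h.ne_top).2 h0 (by decide +kernel) (by decide +kernel)

end Cfsg.Agent.N2.Sp5
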