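import Cfsg.Agent.N2.Sp5.Asm3
import Cfsg.Agent.N2.Sp4.Co1T
import Cfsg.Agent.N2.Sp2.Co2O

/-!
# N2 (S3519): the sporadic rows (helper16)
-/

set_option autoImplicit false

namespace Cfsg.Agent.N2.Sp5

open Cfsg

theorem three1 : Three1 := fun _ _ _ _ h _ H u _ _ m b k => Sp4.odd_Co1 h H u m b k Nat.prime_three

theorem odd2 : Odd2 := fun _ _ _ _ h _ H u _ _ m b k _ hp => Sp2.odd_Co2 h H u m b k hp

/-- **the sporadic rows** -/
theorem spor (cf : Cf) : Row fSpor := spor_of3 cf three1 odd2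

end Cfsg.Agent.N2.Sp5
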