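import Cfsg.Agent.N2.Sp5.Seven
import Cfsg.Agent.N2.Sp5.NL
import Cfsg.Agent.N2.Sp1.Fin
import Cfsg.Agent.N2.Sp.GCo1

/-!
# N2 (S3519): the bad subgroups of `Co₁` are local (helper16)
-/

set_option autoImplicit false
set_option linter.unusedSectionVars false
set_option maxRecDepth 100000

namespace Cfsg.Agent.N2.Sp5

open Cfsg Subgroup Cfsg.Agent.FP3 Cfsg.Agent.N2.Sp Cfsg.Agent.N2.Sp1
open Cfsg.Agent.TAB Cfsg.Agent.TAB.Eng Cfsg.Agent.TAB.Use Cfsg.Agent.SB.SporL Cfsg.Agent.TH.Spor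

theorem char_of {G : Type} [Group G] [Finite G] (S : Subgroup G) [hS : S.Normal] [IsSimpleGroup S]
    (hc : centralizer (S : Set G) = ⊥) : S.Characteristic := by
  refine characteristic_iff_map_le.2 fun φ => ?_
  have h1 : (S.map φ.toMonoidHom).Normal := hS.map _ φ.surjective
  have h2 : IsSimpleGroup (S.map φ.toMonoidHom) := (S.equivMapOfInjective φ.toMonoidHom φ.injective).symm.isSimpleGroup
  refine subgroupOf_eq_top.1 ((inferInstance : (S.subgroupOf (S.map φ.toMonoidHom)).Normal).eq_bot_or_eq_top.resolve_left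
    fun e => (nontrivial_iff_ne_bot _).1 h2.toNontrivial (le_bot_iff.1 (hc ▸ fun m hm => mem_centralizer_iff.2 fun s hs => ?_)))
  exact commute_of_normal_of_disjoint _ _ hS h1 (subgroupOf_eq_bot.1 e) s m hs hm

theorem A56.tp {U : Type} [Group U] [Finite U] [IsSimpleGroup U] (h : A56 U) : ∃ b, (b = 3 ∨ b = 4) ∧ Tp U b := by
  rcases h with ⟨⟨e⟩⟩ | ⟨⟨e⟩⟩
  · exact ⟨3, .inl rfl, tp_of (by rw [Nat.card_congr e.toEquiv, card_alt5]; decide) (.inl rfl)
      (N2C.RAlt.tri_5_2_3_5.congr e.symm)⟩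
  · exact ⟨4, .inr rfl, tp_of (by rw [Nat.card_congr e.toEquiv, card_alt6]; decide) (.inr rfl)
      (N2C.RAlt.tri_6_2_4_5.congr e.symm)⟩

variable {K : Type} [Group K] [Finite K] [IsSimpleGroup K] {A : Subgroup K} {Γ : Subgroup (MulAut K)}

/-- the centraliser of the socle -/
theorem cent_soc (h : MI A Γ) (S : Subgroup A) [S.Normal] [IsSimpleGroup S] (hc : centralizer (S : Set A) = ⊥) {x y : S}
    (hg : closure ({x, y} : Set S) = ⊤) (g : K) (h1 : g ∈ centralizer ({(x.1 : K)} : Set K))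
    (h2 : g ∈ centralizer ({(y.1 : K)} : Set K)) : g = 1 := by
  have := char_of S hc
  have h3 : ∀ z : S, z ∈ (centralizer {g}).comap (A.subtype.comp S.subtype) := fun z => (hg.ge.trans ((closure_le _).2 (by
    rintro _ (rfl | rfl)
    exacts [mem_centralizer_singleton_iff.2 (mem_centralizer_singleton_iff.1 h1).symm,
      mem_centralizer_singleton_iff.2 (mem_centralizer_singleton_iff.1 h2).symm]))) (mem_top z)
  have h4 : g ∈ A := (mi_norm h (mi_char h S) (fun e => (nontrivial_iff_ne_bot S).1 inferInstance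
    ((map_eq_bot_iff_of_injective _ A.subtype_injective).1 e)) fun e => h.ne_top (top_le_iff.1 (e ▸ map_subtype_le S))).le
    (centralizer_le_normalizer _ (mem_centralizer_iff.2 (by
      rintro _ ⟨z, hz, rfl⟩
      exact mem_centralizer_singleton_iff.1 (h3 ⟨z, hz⟩))))
  exact congrArg Subtype.val (mem_bot.1 (hc.le (mem_centralizer_iff.2 fun z hz =>
    Subtype.ext (mem_centralizer_singleton_iff.1 (h3 ⟨z, hz⟩)) : (⟨g, h4⟩ : A) ∈ centralizer (S : Set A))))

theorem okT_Co1 : SpK.okT Sp.Co1.D Sp.Co1.R = true := by decide +kernel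

theorem tri_Co1 : (Glue.frcM (TwoF.SpO.irows Sp.Co1.R) fun W => Glue.frcM (SpK.prows Sp.Co1.R) fun W' =>
    allL (fun a => allL (fun b => okTri Sp.Co1.D W W' a b 14) [1, 2, 3]) [4, 5, 6, 7, 8, 9, 10, 11, 12, 13]) = true := by
  decide +kernel

open Sp.Co1 in
/-- **`Co₁`** -/
theorem nl_Co1 (cf : Cf) {T : TD K D} (H : Hy T R nu) (hU : Unif T) (h : MI A Γ) (hb : ¬ Good A)
    (h0 : ∀ p : ℕ, p.Prime → pCore p A = ⊥) : False := by
  have hS := (sup H hb h.ne_top).2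
  have : Nontrivial A := A.nontrivial_iff_ne_bot.2 h.ne_bot
  have hm : ∀ {g : A} {n : ℕ}, orderOf g = n → n ≠ 1 → T.ty g ∈ S ∧ D.ord (T.ty g) = n := fun {g n} e k =>
    ⟨mem_S H hS g.2 (by rwa [orderOf_coe, e]), by rw [← T.ord, orderOf_coe, e]⟩
  have ho : ∀ g : A, orderOf g ∈ o7 := fun g => by
    by_cases e : orderOf g = 1
    · exact List.mem_cons.2 (.inl e)
    · exact (hm rfl e).2 ▸ (by decide +kernel : ∀ t ∈ S, D.ord t ∈ o7) _ (hm rfl e).1
  have ht : ∀ (g : A) (m : ℕ), Nat.card A ≤ m → 0 < ntd nu 0 (T.ty g) ∧ (D.N / ntd nu 0 (T.ty g)) ^ 3 * m ≤ D.N → False :=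
    fun g m k1 k2 => absurd ((H.thr hb g.2 k2.1).trans_le (Nat.mul_le_mul_left _ k1)) (not_lt.2 k2.2)
  obtain ⟨L, hL⟩ := exists_cp h0
  have := hL.simple
  by_cases h7 : 7 ∣ Nat.card L
  · obtain ⟨h1, ⟨h2, h3⟩ | h2⟩ := seven hL (h0 7 (by norm_num)) ho h7
    · obtain ⟨u, -, ou⟩ := exists_ord L (by norm_num) h7
      obtain ⟨k1, k2⟩ := (by decide +kernel : ∀ t ∈ S, D.ord t = 7 → 0 < ntd nu 0 t ∧ (D.N / ntd nu 0 t) ^ 3 * 700000 ≤ D.N)
        _ (hm ou (by decide)).1 (hm ou (by decide)).2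
      have k3 : num T A (T.ty u) ≤ Nat.card L := (num_le_ord ((orderOf_coe u).trans ou)).trans
        (Nat.card_le_card_of_injective (fun x => ⟨x.1, mem_of_coprime (x.2.symm ▸ h3)⟩)
          fun _ _ e => Subtype.ext (congrArg Subtype.val e :))
      have k4 := (H.den A u).trans (Nat.mul_le_mul_left _ k3)
      rw [← L.index_mul_card, ← mul_assoc, mul_right_comm] at k4
      have k5 := Nat.pow_le_pow_left ((Nat.le_div_iff_mul_le k1).2 (Nat.le_of_mul_le_mul_right k4 Nat.card_pos)) 3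
      refine hb (good_of_le u.2 le_rfl (le_trans ?_ (((Nat.mul_le_mul k5 h2).trans k2).trans H.mass.1.ge)))
      rw [← L.index_mul_card, ← mul_assoc, mul_pow]
      exact Nat.mul_le_mul_right _ (Nat.mul_le_mul_left _ (Nat.le_self_pow (by norm_num) _))
    · exact absurd (h2.trans ((card_subgroup_dvd_card L).trans (H.mass.1 ▸ card_subgroup_dvd_card A))) (by decide +kernel)
  rcases five cf hL h0 ho h7 with ⟨h1, h2, h3⟩ | ⟨⟨g, hg⟩, h1⟩
  · obtain ⟨b, hb, x, y, ox, oy, oz, hg⟩ := h3.tp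
    rw [← orderOf_coe] at ox oy oz
    have : Finite (MulAut L) := Finite.of_injective (fun σ => (σ : L → L)) DFunLike.coe_injective
    have k1 := ((by decide +kernel : ∀ t ∈ S, D.ord t = 5 → 0 < ntd nu 0 t ∧ (D.N / ntd nu 0 t) ^ 3 * 1440 ≤ D.N ∨ t = 14) _
      (hm oz (by decide)).1 (hm oz (by decide)).2).resolve_left
      (ht _ _ ((Nat.le_of_dvd Nat.card_pos (card_dvd_aut h2)).trans h3.aut))
    have k2 := (by decide +kernel : ∀ t ∈ S, D.ord t = 3 ∨ D.ord t = 4 → t ∈ [4, 5, 6, 7, 8, 9, 10, 11, 12, 13]) _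
      (hm ox (by omega)).1 ((hm ox (by omega)).2 ▸ hb)
    have k3 := (by decide +kernel : ∀ t ∈ S, D.ord t = 2 → t ∈ [1, 2, 3]) _ (hm oy (by decide)).1 (hm oy (by decide)).2
    have k4 := tri_Co1
    rw [Glue.frcM_eq, Glue.frcM_eq] at k4
    exact no_tri H.mass H.tab hU okT_Co1 ((orderOf_coe _).trans oy) (cent_soc h L h2 hg)
      (k1.symm ▸ allL_spec (allL_spec k4 _ k2) _ k3 :)
  · have k1 : orderOf g ≠ 1 := by omega
    exact ht g _ h1 ((by decide +kernel : ∀ t ∈ S, D.ord t = 10 ∨ D.ord t = 15 →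
      0 < ntd nu 0 t ∧ (D.N / ntd nu 0 t) ^ 3 * 4147200 ≤ D.N) _ (hm rfl k1).1 ((hm rfl k1).2.symm ▸ hg))

end Cfsg.Agent.N2.Sp5
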