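import Cfsg.Agent.N2.Sp5.RowA
import Cfsg.Agent.N2.Sp5.Co1
import Cfsg.Agent.N2.Sp1.Rows
import Cfsg.Agent.N2.Sp2.Tits
import Cfsg.Agent.N2.Sp3.J4
import Cfsg.Agent.N2.SpK.F22
import Cfsg.Agent.N2.SpK.Suz

/-!
# N2 (S3519): the assembly of the sporadic rows (helper16)
-/

set_option autoImplicit false
set_option maxRecDepth 100000

namespace Cfsg.Agent.N2.Sp5

open Cfsg Cfsg.Agent.FP3 Cfsg.Agent.N2.Sp Cfsg.Agent.N2.SpK Cfsg.Agent.TAB.Eng Cfsg.Agent.TAB.Use Cfsg.Agent.TH.Spor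

/-- the local case -/
def Loc (P : Fam) (D : Dat) (R : Rows) (ν : List ℕ) : Prop :=
  ∀ (K : Type) [Group K] [Finite K] [IsSimpleGroup K], P K → ∀ T : TD K D, Hy T R ν → Unif T →
    ∀ (A : Subgroup K) (Γ : Subgroup (MulAut K)), MI A Γ → ¬ Good A → ∀ p : ℕ, p.Prime → pCore p A = ⊥

/-- what is left -/
structure Rest : Prop where
  co1 : Loc (fun K _ => Spor.IsoCo1 K) Sp.Co1.D Sp.Co1.R Sp.Co1.nu
  co2 : Loc (fun K _ => Spor.IsoCo2 K) Sp.Co2.D Sp.Co2.R Sp.Co2.nu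
  co3 : Loc (fun K _ => Spor.IsoCo3 K) Sp.Co3.D Sp.Co3.R Sp.Co3.nu
  suz : Loc (fun K _ => Spor.IsoSuz K) Sp.Suz.D Sp.Suz.R Sp.Suz.nu
  f22 : Loc (fun K _ => Spor.IsoFi22 K) Sp.Fi22.D Sp.Fi22.R Sp.Fi22.nu
  f23 : Loc (fun K _ => Spor.IsoFi23 K) Sp.Fi23.D Sp.Fi23.R Sp.Fi23.nu
  hn : Row fun K _ => Spor.IsoHN K
  ly : Row fun K _ => Spor.IsoLy K

variable {K : Type} [Group K] [Finite K] [IsSimpleGroup K]

theorem row_Co1 (cf : Cf) (l : Loc (fun K _ => Spor.IsoCo1 K) Sp.Co1.D Sp.Co1.R Sp.Co1.nu) (h : Spor.IsoCo1 K) :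
    ASRow K := fun _ _ hm => by_contra fun hb => by
  obtain ⟨T, H, hU, -⟩ := hy_of (ν := Sp.Co1.nu) (inK_co1 h) Sp.Co1.okz (by decide +kernel)
  exact nl_Co1 cf H hU hm hb (l K h T H hU _ _ hm hb)

theorem row_Co2 (cf : Cf) (l : Loc (fun K _ => Spor.IsoCo2 K) Sp.Co2.D Sp.Co2.R Sp.Co2.nu) (h : Spor.IsoCo2 K) :
    ASRow K := fun _ _ hm => by_contra fun hb => by
  obtain ⟨T, H, hU, -⟩ := hy_of (ν := Sp.Co2.nu) (inK_co2 h) Sp.Co2.okz (by decide +kernel)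
  exact nl_Co2 cf H hm hb (l K h T H hU _ _ hm hb)

theorem row_Co3 (cf : Cf) (l : Loc (fun K _ => Spor.IsoCo3 K) Sp.Co3.D Sp.Co3.R Sp.Co3.nu) (h : Spor.IsoCo3 K) :
    ASRow K := fun _ _ hm => by_contra fun hb => by
  obtain ⟨T, H, hU, -⟩ := hy_of (ν := Sp.Co3.nu) (inK_co3 h) Sp.Co3.okz (by decide +kernel)
  exact nl_Co3 cf H hm hb (l K h T H hU _ _ hm hb)

theorem row_Suz (cf : Cf) (l : Loc (fun K _ => Spor.IsoSuz K) Sp.Suz.D Sp.Suz.R Sp.Suz.nu) (h : Spor.IsoSuz K) :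
    ASRow K := fun _ _ hm => by_contra fun hb => by
  obtain ⟨T, H, hU, -⟩ := hy_of (ν := Sp.Suz.nu) (inK_suz h) Sp.Suz.okz (by decide +kernel)
  exact nl_Suz cf H hm hb (l K h T H hU _ _ hm hb)

theorem row_Fi22 (cf : Cf) (l : Loc (fun K _ => Spor.IsoFi22 K) Sp.Fi22.D Sp.Fi22.R Sp.Fi22.nu) (h : Spor.IsoFi22 K) :
    ASRow K := fun _ _ hm => by_contra fun hb => by
  obtain ⟨T, H, hU, -⟩ := hy_of (ν := Sp.Fi22.nu) (inK_fi22 h) Sp.Fi22.okz (by decide +kernel)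
  exact nl_Fi22 cf H hm hb (l K h T H hU _ _ hm hb)

theorem row_Fi23 (cf : Cf) (l : Loc (fun K _ => Spor.IsoFi23 K) Sp.Fi23.D Sp.Fi23.R Sp.Fi23.nu) (h : Spor.IsoFi23 K) :
    ASRow K := fun _ _ hm => by_contra fun hb => by
  obtain ⟨T, H, hU, -⟩ := hy_of (ν := Sp.Fi23.nu) (inK_fi23 h) Sp.Fi23.okz (by decide +kernel)
  exact nl_Fi23 cf H hm hb (l K h T H hU _ _ hm hb)

theorem tits : Row fTits := fun _ _ _ _ hn h => Sp2.row_Tits hn h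

theorem spor_of (cf : Cf) (r : Rest) : Row fSpor := by
  rintro K _ _ _ hn (h | h | h | h | h | h | h | h | h | h | h | h | h | h | h | h | h | h | h | h | h | h | h | h | h | h)
  exacts [Sp2.row_M11 hn h, Sp2.row_M12 hn h, Sp2.row_M22 hn h, Sp2.row_M23 hn h, Sp2.row_M24 hn h, Sp2.row_J1 hn h,
    Sp1.row_J2 hn h, Sp2.row_J3 hn h, Sp3.row_J4 K h, row_Co1 cf r.co1 h, row_Co2 cf r.co2 h, row_Co3 cf r.co3 h,
    Sp1.row_McL hn h, Sp1.row_HS hn h, row_Suz cf r.suz h, Sp2.row_He hn h, Sp2.row_Ru hn h, Sp2.row_ON hn h,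
    r.ly K hn h, row_Fi22 cf r.f22 h, row_Fi23 cf r.f23 h, row_F24 cf h, r.hn K hn h, Sp2.row_Th hn h, row_B cf h,
    row_M cf h]

end Cfsg.Agent.N2.Sp5
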