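import Cfsg.Agent.N2.Sp5.Asm
import Cfsg.Agent.N2.Sp2.Loc
import Cfsg.Agent.N2.Sp4.F23
import Cfsg.Agent.N2.Sp3.Ly

/-!
# N2 (S3519): the sporadic rows modulo `Co1`, `Co2`, `HN` (helper16)
-/

set_option autoImplicit false

namespace Cfsg.Agent.N2.Sp5

open Cfsg Cfsg.Agent.FP3

theorem spor_of2 (cf : Cf) (co1 : Loc (fun K _ => Spor.IsoCo1 K) Sp.Co1.D Sp.Co1.R Sp.Co1.nu)
    (co2 : Loc (fun K _ => Spor.IsoCo2 K) Sp.Co2.D Sp.Co2.R Sp.Co2.nu) (hn : Row fun K _ => Spor.IsoHN K) : Row fSpor :=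
  spor_of cf ⟨co1, co2, fun _ _ _ _ h _ H u _ _ m b _ p => Sp2.loc_Co3 h H u m b p,
    fun _ _ _ _ h _ H u _ _ m b _ p => Sp2.loc_Suz h H u m b p,
    fun _ _ _ _ h _ H u _ _ m b _ p => Sp4.loc_F22 h H u m b p,
    fun _ _ _ _ h _ H u _ _ m b _ p => Sp4.loc_F23 h H u m b p, hn, fun _ _ _ _ n h => Sp3.row_Ly n h⟩

end Cfsg.Agent.N2.Sp5
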