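import Cfsg.Agent.N2.Sp5.Asm2
import Cfsg.Agent.N2.Sp3.HN
import Cfsg.Agent.N2.Sp4.Co1F
import Cfsg.Agent.N2.Co2L.Asm
import Cfsg.Agent.N2.Co2L.Diag
import Cfsg.Agent.N2.Co2L.Np
import Cfsg.Agent.N2.Co2L.GR
import Cfsg.Agent.N2.Co2L.Rad
import Cfsg.Agent.N2.Co2L.Six
import Cfsg.Agent.N2.Co2L.C5
import Cfsg.Agent.N2.Co2L.Ff
import Cfsg.Agent.N2.Co2L.Q
import Cfsg.Agent.N2.Co2L.Hb
import Cfsg.Agent.N2.Co2L.Ok
import Cfsg.Agent.N2.Co2L.N33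
import Cfsg.Agent.N2.Co2L.Mix
import Cfsg.Agent.N2.Co2L.Cov1
import Cfsg.Agent.N2.Co2L.Cov2

/-!
# N2 (S3519): the sporadic rows modulo the odd local cases of `Co1` and `Co2` (helper16)
-/

set_option autoImplicit false

namespace Cfsg.Agent.N2.Sp5

open Cfsg Cfsg.Agent.FP3 Cfsg.Agent.N2.Co2L

theorem co_main : BoxMain :=
  boxMain boxR (boxRad boxDiag) (boxSix boxDiag) boxCnt boxNp (boxC5 boxDiag boxFpf boxR) boxFf (boxE6 boxThree)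
    (boxQ boxDiag) boxHb

theorem two_Co1 : Bad (fun K _ => Spor.IsoCo1 K) Sp.Co1.D Sp.Co1.R Sp.Co1.nu fun _ _ _ A => pCore 2 A = ⊥ :=
  two_Co1_of co_main boxG0 boxOk (boxCov1 boxDict1) boxN33 boxMix1

theorem two_Co2 : Bad (fun K _ => Spor.IsoCo2 K) Sp.Co2.D Sp.Co2.R Sp.Co2.nu fun _ _ _ A => pCore 2 A = ⊥ :=
  two_Co2_of co_main boxG0 boxOk (boxCov2 boxDict2) boxMix2

/-- the prime three for `Co1` -/
def Three1 : Prop := Bad (fun K _ => Spor.IsoCo1 K) Sp.Co1.D Sp.Co1.R Sp.Co1.nu fun _ _ _ A =>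
  pCore 2 A = ⊥ → pCore 3 A = ⊥

/-- the odd primes for `Co2` -/
def Odd2 : Prop := Bad (fun K _ => Spor.IsoCo2 K) Sp.Co2.D Sp.Co2.R Sp.Co2.nu fun _ _ _ A =>
  pCore 2 A = ⊥ → ∀ p : ℕ, p.Prime → pCore p A = ⊥

theorem spor_of3 (cf : Cf) (h1 : Three1) (h2 : Odd2) : Row fSpor := by
  refine spor_of2 cf (fun K _ _ _ h T H u A Γ m b p hp => ?_)
    (fun K _ _ _ h T H u A Γ m b => h2 K h T H u A Γ m b (two_Co2 K h T H u A Γ m b)) fun _ _ _ _ n h => Sp3.row_HN n h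
  by_cases h5 : 5 ≤ p
  · exact Sp4.big_Co1 H u m b hp h5
  have k := two_Co1 K h T H u A Γ m b
  have := hp.two_le
  obtain rfl | rfl | rfl : p = 2 ∨ p = 3 ∨ p = 4 := by omega
  exacts [k, h1 K h T H u A Γ m b k, absurd hp (by norm_num)]

end Cfsg.Agent.N2.Sp5
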