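import Cfsg.Agent.N2.Sp5.NL
import Cfsg.Agent.N2.Sp4.M
import Cfsg.Agent.N2.Sp4.B
import Cfsg.Agent.N2.Sp4.F24
import Cfsg.Agent.N2.SpK.M
import Cfsg.Agent.N2.SpK.B
import Cfsg.Agent.N2.SpK.F24

/-!
# N2 (S3519): the rows of `M`, `B`, `Fi24'` (helper16)
-/

set_option autoImplicit false
set_option maxRecDepth 100000

namespace Cfsg.Agent.N2.Sp5

open Cfsg Cfsg.Agent.FP3 Cfsg.Agent.N2.Sp Cfsg.Agent.N2.SpK

variable {K : Type} [Group K] [Finite K] [IsSimpleGroup K]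

theorem row_M (cf : Cf) (h : Spor.IsoM K) : ASRow K := fun _ _ hm => by_contra fun hb => by
  obtain ⟨T, H, hU, -⟩ := hy_of (ν := Sp.M.nu) (inK_m h) Sp.M.okz (by decide +kernel)
  exact nl_M cf H hm hb fun _ hp => Sp4.loc_M h H hU hm hb hp

theorem row_B (cf : Cf) (h : Spor.IsoB K) : ASRow K := fun _ _ hm => by_contra fun hb => by
  obtain ⟨T, H, hU, -⟩ := hy_of (ν := Sp.B.nu) (inK_b h) Sp.B.okz (by decide +kernel)
  exact nl_B cf H hm hb fun _ hp => Sp4.loc_B h H hU hm hb hp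

theorem row_F24 (cf : Cf) (h : Spor.IsoFi24' K) : ASRow K := fun _ _ hm => by_contra fun hb => by
  obtain ⟨T, H, hU, -⟩ := hy_of (ν := Sp.Fi24.nu) (inK_fi24 h) Sp.Fi24.okz (by decide +kernel)
  exact nl_Fi24 cf H hm hb fun _ hp => Sp4.loc_F24 h H hU hm hb hp

end Cfsg.Agent.N2.Sp5
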