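import Cfsg.Agent.N2.Sp5.Shape
import Cfsg.Agent.N2.Alt.Tab
import Cfsg.Agent.H127.UnitSinger
import Cfsg.Agent.H164.ExplElt
import Cfsg.Agent.H380.AltSpec
import Cfsg.Agent.S4620

/-!
# N2 (S3519), sporadic groups: groups without normal subgroups of prime power order, primes up to seven (helper16)
-/

set_option autoImplicit false
set_option linter.unusedSectionVars false

namespace Cfsg.Agent.N2.Sp5

open Cfsg Subgroup Cfsg.Agent.H612.MinNormal

/-- a regular unipotent element -/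
def uA : Matrix (Fin 4) (Fin 4) (ZMod 3) := !![1, 1, 0, 0; 0, 1, 1, 0; 0, 0, 1, 1; 0, 0, 0, 1]

/-- an invariant form -/
def uX : Matrix (Fin 4) (Fin 4) (ZMod 3) := !![0, 0, 0, 1; 0, 0, 2, 1; 0, 1, 0, 0; 2, 2, 0, 0]

theorem uA_ord : orderOf uA = 3 ^ (1 + 1) := by
  have h := H164.ExplElt.pow_nine (g := uA) (g2 := !![1, 2, 1, 0; 0, 1, 2, 1; 0, 0, 1, 2; 0, 0, 0, 1])
    (g3 := !![1, 0, 0, 1; 0, 1, 0, 0; 0, 0, 1, 0; 0, 0, 0, 1]) (g6 := !![1, 0, 0, 2; 0, 1, 0, 0; 0, 0, 1, 0; 0, 0, 0, 1])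
    (by decide +kernel) (by decide +kernel) (by decide +kernel) (by decide +kernel)
  exact orderOf_eq_prime_pow (by rw [h.1]; decide +kernel) h.2

theorem uA_zero (k : ℕ) : (uA ^ k) 0 0 = 1 := by
  induction k with
  | zero => rfl
  | succ k ih =>
    rw [pow_succ, Matrix.mul_apply, Fin.sum_univ_four, ih]
    simp [uA]

theorem uA_chk : uX * !![0, 0, 2, 2; 0, 0, 1, 0; 1, 2, 0, 0; 1, 0, 0, 0] = 1 ∧ uA.det = 1 ∧ uA.transpose * uX * uA = uX := by
  decide +kernel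

theorem u43_nine {F : Type} [Field F] [Fintype F] (hF : Fintype.card F = 3 ^ 2) : ∃ z : PSU 4 F 3, orderOf z = 9 := by
  have := Fact.mk Nat.prime_three
  have : CharP F 3 := charP_of_card_eq_prime_pow hF
  let f := ZMod.castHom (dvd_refl 3) F
  refine H127.UnitSinger.exists_order hF (by norm_num) (f.mapMatrix uA) (f.mapMatrix uX)
    ((IsUnit.of_mul_eq_one _ uA_chk.1).map _) (by rw [← RingHom.map_det, uA_chk.2.1, map_one]) ?_ (N := 9) (fun k c h => ?_) 9 dvd_rfl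
  · have h1 : H186.st 3 (f.mapMatrix uA) = f.mapMatrix uA.transpose := by
      ext i j
      show f (uA j i) ^ 3 = f (uA j i)
      rw [← map_pow, ZMod.pow_card]
    rw [h1, ← map_mul, ← map_mul, uA_chk.2.2]
  · rw [← map_pow] at h
    have h1 : f ((uA ^ k) 0 0) = c * 1 := congrFun (congrFun h 0) 0
    rw [uA_zero, map_one, mul_one] at h1
    rw [← h1, one_smul, ← map_one f.mapMatrix] at h
    exact (dvd_of_eq uA_ord.symm).trans (orderOf_dvd_of_pow_eq_one (Matrix.map_injective f.injective h))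

variable {G : Type} [Group G] [Finite G]

theorem ord_mul {a b : G} (h : Commute a b) {m n : ℕ} (ha : orderOf a = m) (hb : orderOf b = n) (hc : m.Coprime n) :
    orderOf (a * b) = m * n := by
  rw [h.orderOf_mul_eq_mul_orderOf_of_coprime (ha ▸ hb ▸ hc), ha, hb]

theorem ord_cj (g a : G) : orderOf (g * a * g⁻¹) = orderOf a := (MulAut.conj g).orderOf_eq a

theorem Cp.comm {S : Subgroup G} (h : Cp S) {g x y : G} (hg : g ∉ normalizer (S : Set G)) (hx : x ∈ S) (hy : y ∈ S) :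
    Commute x (g * y * g⁻¹) :=
  mem_centralizer_iff.1 ((h.cnj g).resolve_left (mt mem_normalizer_iff_cj.2 hg) ⟨y, hy, rfl⟩) x hx

/-- at most two conjugates -/
theorem Cp.index_dvd {S : Subgroup G} (h : Cp S) (h30 : 30 ∣ Nat.card S) (ho : ∀ g : G, orderOf g ≠ 30) :
    (normalizer (S : Set G)).index ∣ 2 := by
  obtain ⟨w, hw, ow⟩ := exists_ord S Nat.prime_two (by omega)
  obtain ⟨v, hv, ov⟩ := exists_ord S Nat.prime_three (by omega)
  obtain ⟨u, hu, ou⟩ := exists_ord S Nat.prime_five (by omega)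
  rw [index_dvd_two_iff]
  by_cases h1 : ∀ a, a ∈ normalizer (S : Set G)
  · exact ⟨1, fun b => .inr (h1 b)⟩
  obtain ⟨a, ha⟩ := not_forall.1 h1
  refine ⟨a, fun b => by_contra fun k => ?_⟩
  obtain ⟨k1, k2⟩ := not_or.1 k
  have c1 := h.comm ha hw hv
  have c2 := h.comm (mt inv_mem_iff.1 k2) hw hu
  have c3 : Commute (b⁻¹ * u * b⁻¹⁻¹) (a * v * a⁻¹) := by
    have := (h.comm k1 hu hv).map (MulAut.conj b⁻¹)
    rwa [MulAut.conj_apply, MulAut.conj_apply, show b⁻¹ * (b * a * v * (b * a)⁻¹) * b⁻¹⁻¹ = a * v * a⁻¹ by group] at this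
  exact ho _ (ord_mul (c2.mul_left c3.symm) (ord_mul c1 ow ((ord_cj a v).trans ov) (by norm_num))
    ((ord_cj _ u).trans ou) (by norm_num))

/-- the allowed orders -/
def o7 : List ℕ := [1, 2, 3, 4, 5, 6, 7, 8, 10, 12, 15]

/-- `A₅` or `A₆` -/
def A56 (U : Type) [Group U] : Prop :=
  Nonempty (U ≃* alternatingGroup (Fin 5)) ∨ Nonempty (U ≃* alternatingGroup (Fin 6))

theorem A56.aut {U : Type} [Group U] (h : A56 U) : Nat.card (MulAut U) ≤ 1440 := by
  rcases h with ⟨⟨e⟩⟩ | ⟨⟨e⟩⟩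
  · rw [card_aut_congr e, H138.HT.card_aut_alt 5 (by norm_num) (by norm_num)]
    decide
  · rw [card_aut_congr e, H824.ProdLem.card_aut_a6]

theorem nine_of {S : Subgroup G} {U : Type} [Group U] (e : Nonempty (S ≃* U)) (h : ∃ x : U, orderOf x = 9) :
    ∃ g : G, orderOf g = 9 := by
  obtain ⟨e⟩ := e
  obtain ⟨x, hx⟩ := h
  exact ⟨e.symm x, by rw [orderOf_coe, e.symm.orderOf_eq, hx]⟩

theorem seven {S : Subgroup G} (h : Cp S) (h0 : pCore 7 G = ⊥) (ho : ∀ g : G, orderOf g ∈ o7) (h7 : 7 ∣ Nat.card S) :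
    S.Normal ∧ (Nat.card S ≤ 700000 ∧ S.index.Coprime 7 ∨ 343 ∣ Nat.card S) := by
  have := h.simple
  have p7 : Nat.Prime 7 := by norm_num
  obtain ⟨u, hu, ou⟩ := exists_ord S p7 h7
  obtain ⟨h1, h2⟩ := h.soc p7 h0 (pg_cent hu p7 fun g hg hc => by_contra fun e => by
    have h3 := ho (u * g)
    rw [ord_mul hc ou rfl ((Nat.coprime_primes p7 hg).2 (Ne.symm e))] at h3
    exact (by decide : ∀ n ∈ o7, n.Prime → 7 * n ∉ o7) _ (ho g) hg h3)
  obtain ⟨e, k1, k2, k3, k4⟩ := Alt.smooth (S := S) (fun k => h.nab ⟨⟨k⟩⟩) fun p hp hd => by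
    obtain ⟨x, -, rfl⟩ := exists_ord S hp hd
    exact (by decide : ∀ n ∈ o7, n.Prime → n < 11) _ (ho x) hp
  have h9 : ¬ ∃ g : G, orderOf g = 9 := fun ⟨g, hg⟩ => absurd (hg ▸ ho g) (by decide)
  refine ⟨h1, ?_⟩
  rcases (by decide +kernel : ∀ e ∈ Alt.L7, 7 ∣ e.2.1 → e.2.1 ≤ 700000 ∧ e.2.2.Coprime 7 ∨ 343 ∣ e.2.1 ∨ e.1 = .alt 10 ∨
    e.1 = .psp 3 2 ∨ e.1 = .psu 4 3 ∨ e.1 = .oplus 4 2) e k1 (k3 ▸ h7) with k | k | k | k | k | k
  · refine .inl ⟨k3 ▸ k.1, Nat.Coprime.coprime_dvd_left (Nat.dvd_of_mul_dvd_mul_right (Nat.card_pos (α := S)) ?_) k.2⟩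
    rw [S.index_mul_card, k3]
    exact (card_dvd_aut h2).trans k4
  · exact .inr (k3 ▸ k)
  all_goals rw [k] at k2
  · exact absurd (nine_of k2 (H380.AltSpec.exists_orderOf {9} (by decide) (by decide) (by decide))) h9
  · obtain ⟨F, _, _, hF, k2⟩ := k2
    exact absurd (nine_of k2 (H164.ExplElt.psp_six hF)) h9
  · obtain ⟨F, _, _, hF, k2⟩ := k2
    exact absurd (nine_of k2 (u43_nine hF)) h9
  · obtain ⟨F, _, _, hF, k2⟩ := k2
    exact absurd (nine_of k2 (H164.ExplElt.oplus_nine hF)) h9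

theorem five (cf : Cf) {S : Subgroup G} (h : Cp S) (h0 : ∀ p : ℕ, p.Prime → pCore p G = ⊥) (ho : ∀ g : G, orderOf g ∈ o7)
    (h7 : ¬ 7 ∣ Nat.card S) : S.Normal ∧ centralizer (S : Set G) = ⊥ ∧ A56 S ∨
      (∃ g : G, orderOf g = 10 ∨ orderOf g = 15) ∧ Nat.card G ≤ 4147200 := by
  have := h.simple
  have no : ∀ n, n ∉ o7 → ∀ g : G, orderOf g ≠ n := fun n hn g e => hn (e ▸ ho g)
  have h1 : L5 S := list5 cf h.nab fun r hr hd => by
    obtain ⟨x, -, rfl⟩ := exists_ord S hr hd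
    exact (by decide : ∀ n ∈ o7, n.Prime → n ≠ 7 → n ≤ 5) _ (ho x) hr fun e => h7 (e ▸ hd)
  have h2 : A56 S := h1.elim .inl fun k => k.elim .inr fun ⟨F, _, _, hF, e⟩ => by
    obtain ⟨g, hg⟩ := nine_of e (H497.UFourTwo.exists_order_nine hF)
    exact absurd hg (no 9 (by decide) g)
  have h30 : 30 ∣ Nat.card S := by have := h1.card; omega
  obtain ⟨w, hw, ow⟩ := exists_ord S Nat.prime_two (by omega)
  obtain ⟨v, hv, ov⟩ := exists_ord S Nat.prime_three (by omega)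
  obtain ⟨u, hu, ou⟩ := exists_ord S Nat.prime_five (by omega)
  by_cases hc : IsPGroup 5 (centralizer (S : Set G))
  · obtain ⟨h3, h4⟩ := h.soc Nat.prime_five (h0 5 Nat.prime_five) hc
    exact .inl ⟨h3, h4, h2⟩
  have h3 : ∀ g : G, (orderOf g).Prime → Commute u g → orderOf g ≠ 5 → orderOf (u * g) = 10 ∨ orderOf (u * g) = 15 :=
    fun g hg k e => by
      have h4 := ho (u * g)
      rw [ord_mul k ou rfl ((Nat.coprime_primes Nat.prime_five hg).2 (Ne.symm e))] at h4 ⊢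
      exact (by decide : ∀ n ∈ o7, n.Prime → 5 * n ∈ o7 → 5 * n = 10 ∨ 5 * n = 15) _ (ho g) hg h4
  refine .inr ⟨by_contra fun k => hc (pg_cent hu Nat.prime_five fun g hg k1 => by_contra fun e => k ⟨_, h3 g hg k1 e⟩), ?_⟩
  have h4 := h.index_dvd h30 (no 30 (by decide))
  have h5 : (normalizer (S : Set G)).Normal :=
    ((Nat.dvd_prime Nat.prime_two).1 h4).elim normal_of_index_eq_one normal_of_index_eq_two
  have h6 := (normalizer (S : Set G)).index_mul_card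
  have h7 := S.normalizerMonoidHom.ker.index_mul_card
  have h8 : S.normalizerMonoidHom.ker.index ≤ 1440 := by
    have : Finite (MulAut S) := Finite.of_injective (fun σ => (σ : S → S)) DFunLike.coe_injective
    rw [index_ker]
    exact (card_le_card_group _).trans h2.aut
  have h9 : ∀ x : S.normalizerMonoidHom.ker, ∀ s ∈ S, Commute s x.1.1 := fun x s hs =>
    mem_centralizer_iff.1 (mem_subgroupOf.1 (S.normalizerMonoidHom_ker ▸ x.2)) s hs
  have h10 : ∀ x : S.normalizerMonoidHom.ker, orderOf x.1.1 = orderOf x := fun x => by rw [orderOf_coe, orderOf_coe]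
  have : Nontrivial S.normalizerMonoidHom.ker := (nontrivial_iff_ne_bot _).2 fun e => hc (by
    rw [normalizerMonoidHom_ker, subgroupOf_eq_bot, disjoint_iff, inf_eq_left.2 (centralizer_le_normalizer _)] at e
    exact e ▸ IsPGroup.of_bot)
  obtain ⟨-, h11⟩ := shape cf (G := S.normalizerMonoidHom.ker)
    (fun p hp => S4620.pCore_eq_bot_of_normal p _ inferInstance (S4620.pCore_eq_bot_of_normal p _ h5 (h0 p hp)))
    (fun x hx => by
      rw [← h10] at hx ⊢
      by_contra e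
      have k := h3 _ hx (h9 x u hu) (by omega)
      rw [ord_mul (h9 x u hu) ou rfl ((Nat.coprime_primes Nat.prime_five hx).2 (by omega))] at k
      omega)
    fun x => ⟨fun e => no 30 (by decide) _ (ord_mul (h9 x v hv) ov ((h10 x).trans e) (by norm_num)),
      fun e => no 30 (by decide) _ (ord_mul (h9 x w hw) ow ((h10 x).trans e) (by norm_num))⟩
  have h12 : Nat.card S.normalizerMonoidHom.ker ≤ 1440 := h11.elim
    (fun ⟨q, k1, k2, _⟩ => k2 ▸ (by decide : ∀ q ∈ cand, q.1 ≤ 1440) q k1)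
    fun ⟨_, x, hx⟩ => absurd ((h10 x).trans hx) (no 9 (by decide) _)
  rw [← h6, ← h7]
  exact Nat.mul_le_mul (Nat.le_of_dvd two_pos h4) (Nat.mul_le_mul h8 h12)

end Cfsg.Agent.N2.Sp5
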